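import Groth.Agent.SmoothCrit29.Basic
import Groth.Agent.S4939

/-!
# Smooth morphisms to a unibranch base are equidimensional
-/

universe u

set_option autoImplicit false
set_option linter.style.haveILetI false
set_option linter.unusedSectionVars false
set_option backward.isDefEq.respectTransparency false
set_option backward.isDefEq.respectTransparency.types false
set_option maxHeartbeats 800000

open CategoryTheory CategoryTheory.Limits AlgebraicGeometry TopologicalSpace IsLocalRing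

noncomputable section

namespace Groth.Agent.SmoothCrit29

/-- A point with unibranch local ring lies on a single component. -/
theorem maximal_generization_unique {Y : Scheme.{u}} {y : Y} (hy : CAlg2.IsUnibranch (Y.presheaf.stalk y)) {a b : Y}
    (ha : a ⤳ y) (hb : b ⤳ y) (ham : ∀ z, z ⤳ a → z = a) (hbm : ∀ z, z ⤳ b → z = b) : a = b := by
  haveI hd : IsDomain (CAlg2.red (Y.presheaf.stalk y)) := hy.1
  let p₀ : Spec (Y.presheaf.stalk y) := ⟨nilradical (Y.presheaf.stalk y), (Ideal.Quotient.isDomain_iff_prime _).1 hd⟩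
  have key : ∀ c : Y, c ⤳ y → (∀ z, z ⤳ c → z = c) → c = Y.fromSpecStalk y p₀ := fun c hc hcm => by
    obtain ⟨p, rfl⟩ : c ∈ Set.range (Y.fromSpecStalk y) := by rw [Scheme.range_fromSpecStalk]; exact hc
    refine (hcm _ ?_).symm
    refine (PrimeSpectrum.le_iff_specializes p₀ p).1 ?_ |>.map (Y.fromSpecStalk y).continuous
    exact (nilradical_le_prime (PrimeSpectrum.asIdeal p) : nilradical (Y.presheaf.stalk y) ≤ _)
  exact (key a ha ham).trans (key b hb hbm).symm

/-- Near a point with unibranch local ring every component passes through it. -/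
theorem exists_nhd_maximal {Y : Scheme.{u}} [IsLocallyNoetherian Y] (y : Y) :
    ∃ V : Y.Opens, y ∈ V ∧ ∀ a ∈ V, (∀ z, z ⤳ a → z = a) → a ⤳ y := by
  obtain ⟨_, ⟨O, hO, rfl⟩, hyO, -⟩ := Y.isBasis_affineOpens.exists_subset_of_mem_open (Set.mem_univ y) isOpen_univ
  haveI : IsNoetherianRing Γ(Y, O) := IsLocallyNoetherian.component_noetherian ⟨O, hO⟩
  haveI : NoetherianSpace (Scheme.Opens.toScheme O) := noetherianSpace_of_isAffineOpen O hO
  let M : Set (Scheme.Opens.toScheme O) := {a | ∀ z, z ⤳ (Scheme.Opens.ι O) a → z = (Scheme.Opens.ι O) a}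
  have hM : M.Finite := by
    refine Set.Finite.subset ((NoetherianSpace.finite_irreducibleComponents (α := (Scheme.Opens.toScheme O))).preimage
      (f := fun a : (Scheme.Opens.toScheme O) => closure ({a} : Set (Scheme.Opens.toScheme O))) ?_) fun a ha => ?_
    · intro a _ b _ (hab : closure {a} = closure {b})
      exact ((specializes_iff_mem_closure.2 (hab.symm ▸ subset_closure rfl : b ∈ closure {a})).antisymm
        (specializes_iff_mem_closure.2 (hab ▸ subset_closure rfl : a ∈ closure {b}))).eq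
    · exact FDescent.closure_mem_irreducibleComponents (X := (Scheme.Opens.toScheme O)) fun w hw =>
        (Scheme.Opens.ι O).isOpenEmbedding.injective (ha _ (hw.map (Scheme.Opens.ι O).continuous))
  let bad : Set Y := ⋃ a ∈ {a ∈ M | ¬ (Scheme.Opens.ι O) a ⤳ y}, closure {(Scheme.Opens.ι O) a}
  have hbad : IsClosed bad := (hM.subset fun a h => h.1).isClosed_biUnion fun _ _ => isClosed_closure
  refine ⟨⟨(O : Set Y) ∩ badᶜ, O.2.inter hbad.isOpen_compl⟩, ⟨hyO, fun h => ?_⟩, fun a ha ham => ?_⟩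
  · obtain ⟨b, hb, hyb⟩ := Set.mem_iUnion₂.1 h
    exact hb.2 (specializes_iff_mem_closure.2 hyb)
  · by_contra hay
    exact ha.2 (Set.mem_iUnion₂.2 ⟨⟨a, ha.1⟩, ⟨ham, hay⟩, subset_closure rfl⟩)

variable {X Y : Scheme.{u}} (f : X ⟶ Y) [IsLocallyNoetherian Y] [LocallyOfFiniteType f]

theorem isEquidimAt_of_smooth (U : X.Opens) [Smooth (U.ι ≫ f)] {x : X} (hx : x ∈ U)
    (hy : CAlg2.IsUnibranch (Y.presheaf.stalk (f.base x))) : EGA43.IsEquidimAt f x := by
  obtain ⟨-, -, W, -, -, n, hxW, -, hW, -⟩ := Synt29.SmoothDim.exists_chart (U.ι ≫ f) ⟨x, hx⟩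
  obtain ⟨V, hyV, hV⟩ := exists_nhd_maximal (f.base x)
  let T : X.Opens := U.ι ''ᵁ W ⊓ f ⁻¹ᵁ V
  refine (FibDim.isEquidimAt_iff f x).2 ⟨n, T, ⟨⟨⟨x, hx⟩, hxW, rfl⟩, hyV⟩, fun η hη hmax => ?_, fun z hz hm => ?_⟩
  · obtain ⟨⟨w, hw, rfl⟩, hηV⟩ := hη
    have hmaxη : ∀ t, t ⤳ f.base (U.ι w) → t = f.base (U.ι w) := by
      intro t ht
      have hfl : GeneralizingMap (U.ι ≫ f).base := Flat.generalizingMap (U.ι ≫ f)
      obtain ⟨w', hw', hfw'⟩ := hfl (show t ⤳ (U.ι ≫ f).base w from ht)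
      rw [← hfw']
      exact congrArg f.base (hmax _ (hw'.map U.ι.continuous))
    exact ⟨hmaxη, hV _ hηV hmaxη⟩
  · obtain ⟨⟨w, hw, rfl⟩, -⟩ := hz
    have h1 := FibDim.fibreDimAt_eq_rd f hm
    have h2 : FlatMor.fibreDimAt f (U.ι w) = (n : WithBot ℕ∞) := by
      let j : (W : Scheme.{u}) ⟶ X := W.ι ≫ U.ι
      have hj : j ⟨w, hw⟩ = U.ι w := rfl
      haveI : SmoothOfRelativeDimension n (W.ι ≫ U.ι ≫ f) := hW
      refine (congrArg (FlatMor.fibreDimAt f) hj.symm).trans ?_
      exact (Groth.Agent.S7408.result f (W.ι ≫ U.ι ≫ f) j (𝟙 Y)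
        ((Category.comp_id _).trans (Category.assoc _ _ _).symm) ⟨w, hw⟩).trans
        (Groth.Agent.S2768.result n (W.ι ≫ U.ι ≫ f) _)
    have h3 : ((FibDim.rd f (U.ι w) : ℕ∞) : WithBot ℕ∞) = (n : WithBot ℕ∞) := h1.symm.trans h2
    exact_mod_cast h3

end Groth.Agent.SmoothCrit29
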