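import Groth.Agent.S2036
import Groth.Agent.S2038
import Groth.Agent.S2156
import Groth.Agent.S2768
import Groth.Agent.S9256
import Groth.Agent.LiftCrit.Basic
import Groth.Agent.FlatPtDesc.Basic
import Groth.Agent.FlatDvrVC5.UnivOpenFlat
import Groth.Agent.SmoothReg.Scheme
import Groth.Agent.FibDim.Basic
import Groth.Agent.Synt29.SmoothDim
import Groth.Agent.DimFormula.Equidim
import Mathlib

/-!
# Smoothness criteria over a reduced base
-/

universe u

set_option autoImplicit false
set_option linter.style.haveILetI false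
set_option linter.unusedSectionVars false
set_option backward.isDefEq.respectTransparency false
set_option backward.isDefEq.respectTransparency.types false
set_option maxHeartbeats 800000

open CategoryTheory CategoryTheory.Limits AlgebraicGeometry TopologicalSpace IsLocalRing
open scoped TensorProduct

noncomputable section

namespace Groth.Agent.SmoothCrit29

theorem geometricallyRegular_transfer {k₁ k₂ S₁ S₂ : Type u} [Field k₁] [Field k₂] [CommRing S₁] [CommRing S₂]
    [Algebra k₁ S₁] [Algebra k₂ S₂] (e : k₁ ≃+* k₂) (f : S₁ ≃+* S₂)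
    (hef : ∀ c, f (algebraMap k₁ S₁ c) = algebraMap k₂ S₂ (e c))
    (h : CAlg.IsGeometricallyRegular k₁ S₁) : CAlg.IsGeometricallyRegular k₂ S₂ := by
  intro K _ _ hK
  letI : Algebra k₁ k₂ := e.toRingHom.toAlgebra
  letI : Algebra k₁ K := ((algebraMap k₂ K).comp e.toRingHom).toAlgebra
  letI : Algebra k₁ S₂ := ((algebraMap k₂ S₂).comp e.toRingHom).toAlgebra
  haveI : IsScalarTower k₁ k₂ K := IsScalarTower.of_algebraMap_eq fun _ => rfl
  haveI : IsScalarTower k₁ k₂ S₂ := IsScalarTower.of_algebraMap_eq fun _ => rfl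
  haveI : Module.Finite k₂ K := hK
  haveI : Module.Finite k₁ k₂ :=
    Module.Finite.of_surjective (Algebra.linearMap k₁ k₂) e.surjective
  haveI : Module.Finite k₁ K := Module.Finite.trans k₂ K
  haveI := h K inferInstance
  let f' : S₁ ≃ₐ[k₁] S₂ := AlgEquiv.ofRingEquiv (f := f) hef
  have hsurj : Function.Surjective (algebraMap k₁ k₂) := e.surjective
  let φ : K ⊗[k₁] S₁ →ₐ[k₁] K ⊗[k₂] S₂ :=
    Algebra.TensorProduct.lift ((Algebra.TensorProduct.includeLeft : K →ₐ[k₁] K ⊗[k₂] S₂))
      (((Algebra.TensorProduct.includeRight : S₂ →ₐ[k₂] K ⊗[k₂] S₂).restrictScalars k₁).comp f'.toAlgHom)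
      fun _ _ => Commute.all _ _
  have hφ : ∀ a b, φ (a ⊗ₜ[k₁] b) = a ⊗ₜ[k₂] f b := fun a b => by
    rw [Algebra.TensorProduct.lift_tmul]
    show (a ⊗ₜ[k₂] (1 : S₂)) * ((1 : K) ⊗ₜ[k₂] f b) = _
    rw [Algebra.TensorProduct.tmul_mul_tmul, mul_one, one_mul]
  let B : K →ₗ[k₂] S₂ →ₗ[k₂] K ⊗[k₁] S₁ :=
    { toFun := fun a =>
        { toFun := fun b => a ⊗ₜ[k₁] f.symm b
          map_add' := fun b b' => by rw [map_add, TensorProduct.tmul_add]
          map_smul' := fun c b => by
            obtain ⟨c, rfl⟩ := hsurj c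
            show a ⊗ₜ[k₁] f.symm (e c • b) = e c • (a ⊗ₜ[k₁] f.symm b)
            rw [Algebra.smul_def, map_mul, ← hef, f.symm_apply_apply, ← Algebra.smul_def, TensorProduct.smul_tmul',
              TensorProduct.tmul_smul, TensorProduct.smul_tmul']
            exact congrArg (· ⊗ₜ[k₁] f.symm b) (algebraMap_smul k₂ c a).symm }
      map_add' := fun a a' => LinearMap.ext fun b => TensorProduct.add_tmul a a' (f.symm b)
      map_smul' := fun c a => LinearMap.ext fun b => (TensorProduct.smul_tmul' c a (f.symm b)).symm }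
  have hbij : Function.Bijective φ := by
    refine ⟨Function.LeftInverse.injective (g := TensorProduct.lift B) fun z => ?_, fun z => ?_⟩
    · induction z using TensorProduct.induction_on with
      | zero => rw [map_zero, map_zero]
      | tmul a b =>
        rw [hφ, TensorProduct.lift.tmul]
        exact congrArg (a ⊗ₜ[k₁] ·) (f.symm_apply_apply b)
      | add x y hx hy => rw [map_add, map_add, hx, hy]
    · induction z using TensorProduct.induction_on with
      | zero => exact ⟨0, map_zero φ⟩
      | tmul a b => exact ⟨a ⊗ₜ[k₁] f.symm b, by rw [hφ, f.apply_symm_apply]⟩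
      | add x y hx hy =>
        obtain ⟨x', rfl⟩ := hx; obtain ⟨y', rfl⟩ := hy
        exact ⟨x' + y', map_add φ x' y'⟩
  exact IsRegularRing.of_ringEquiv (RingEquiv.ofBijective φ hbij)

/-- The closed fibre as a quotient. -/
theorem geometricallyRegular_fiber_iff {R A : Type u} [CommRing R] [CommRing A] [IsLocalRing R] [Algebra R A] :
    CAlg.IsGeometricallyRegular (maximalIdeal R).ResidueField ((maximalIdeal R).Fiber A) ↔
      letI : Algebra (ResidueField R) (A ⧸ (maximalIdeal R).map (algebraMap R A)) :=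
        (Ideal.quotientMap ((maximalIdeal R).map (algebraMap R A)) (algebraMap R A) Ideal.le_comap_map).toAlgebra
      CAlg.IsGeometricallyRegular (ResidueField R) (A ⧸ (maximalIdeal R).map (algebraMap R A)) := by
  let m := maximalIdeal R
  letI : Algebra (ResidueField R) (A ⧸ m.map (algebraMap R A)) :=
    (Ideal.quotientMap (m.map (algebraMap R A)) (algebraMap R A) Ideal.le_comap_map).toAlgebra
  let e₀ : (R ⧸ m) ≃+* m.ResidueField := RingEquiv.ofBijective _ (Ideal.bijective_algebraMap_quotient_residueField m)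
  let e₁ : m.ResidueField ≃ₐ[R] R ⧸ m :=
    (AlgEquiv.ofRingEquiv (f := e₀) fun r => (IsScalarTower.algebraMap_apply R (R ⧸ m) m.ResidueField r).symm).symm
  let e₂ : m.Fiber A ≃ₐ[R] (A ⊗[R] (R ⧸ m)) :=
    (Algebra.TensorProduct.congr e₁ AlgEquiv.refl).trans (Algebra.TensorProduct.comm R _ _)
  let e₃ : (A ⊗[R] (R ⧸ m)) ≃ₐ[R] A ⧸ m.map (algebraMap R A) :=
    ((Algebra.TensorProduct.quotIdealMapEquivTensorQuot A m).symm.restrictScalars R)
  let f : m.Fiber A ≃+* A ⧸ m.map (algebraMap R A) := (e₂.trans e₃).toRingEquiv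
  have hf : ∀ c, f (algebraMap m.ResidueField (m.Fiber A) c) =
      algebraMap (ResidueField R) (A ⧸ m.map (algebraMap R A)) (e₁ c) := by
    intro c
    obtain ⟨r, hr⟩ := Ideal.Quotient.mk_surjective (e₁ c)
    obtain rfl : c = algebraMap R m.ResidueField r := e₁.injective (by rw [← hr, e₁.commutes]; rfl)
    rw [← IsScalarTower.algebraMap_apply R m.ResidueField (m.Fiber A), ← hr]
    exact (e₂.trans e₃).commutes r
  have hef : ∀ c, f.symm (algebraMap (ResidueField R) (A ⧸ m.map (algebraMap R A)) c) =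
      algebraMap m.ResidueField (m.Fiber A) (e₁.symm c) := fun c => f.injective (by
    rw [f.apply_symm_apply, hf, e₁.apply_symm_apply])
  exact ⟨geometricallyRegular_transfer (k₂ := ResidueField R) e₁.toRingEquiv f hf,
    geometricallyRegular_transfer (k₁ := ResidueField R) e₁.symm.toRingEquiv f.symm hef⟩

theorem isField_stalk_of_field {K : Type u} [Field K] (t : Spec (CommRingCat.of K)) :
    IsField ((Spec (CommRingCat.of K)).presheaf.stalk t) := by
  haveI : IsLocalization.AtPrime ((Spec.structureSheaf K).presheaf.stalk t) (PrimeSpectrum.asIdeal (R := K) t) :=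
    inferInstance
  have hS : (PrimeSpectrum.asIdeal (R := K) t).primeCompl ≤ IsUnit.submonoid K := fun z hz =>
    (IsUnit.mk0 z fun h => hz (h ▸ Ideal.zero_mem _) : IsUnit z)
  exact (IsLocalization.atUnits K (PrimeSpectrum.asIdeal (R := K) t).primeCompl
    (S := (Spec.structureSheaf K).presheaf.stalk t) hS).toMulEquiv.symm.isField (Field.toIsField K)

variable {X Y : Scheme.{u}} (f : X ⟶ Y)

/-- Geometric regularity of the closed fibre of the stalk map. -/
def FibGeomReg (x : X) : Prop :=
  letI φ := (f.stalkMap x).hom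
  letI 𝔪 := IsLocalRing.maximalIdeal ↑(Y.presheaf.stalk (f.base x))
  letI : Algebra (IsLocalRing.ResidueField ↑(Y.presheaf.stalk (f.base x))) (↑(X.presheaf.stalk x) ⧸ 𝔪.map φ) :=
    (Ideal.quotientMap (𝔪.map φ) φ Ideal.le_comap_map).toAlgebra
  CAlg.IsGeometricallyRegular (IsLocalRing.ResidueField ↑(Y.presheaf.stalk (f.base x))) (↑(X.presheaf.stalk x) ⧸ 𝔪.map φ)

theorem lfp_of_lft [IsLocallyNoetherian Y] [LocallyOfFiniteType f] : LocallyOfFinitePresentation f := by
  rw [HasRingHomProperty.iff_appLE (P := @LocallyOfFinitePresentation)]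
  intro U V e
  have hU : IsNoetherianRing Γ(Y, U) := IsLocallyNoetherian.component_noetherian U
  exact (RingHom.FinitePresentation.of_finiteType).1
    (HasRingHomProperty.appLE @LocallyOfFiniteType f inferInstance U V e)

variable [IsLocallyNoetherian Y] [LocallyOfFiniteType f]

/-- Smoothness near a point is flatness together with geometric regularity of the fibre. -/
theorem smooth_nhd_iff (x : X) :
    (∃ U : X.Opens, x ∈ U ∧ Smooth (U.ι ≫ f)) ↔ (f.stalkMap x).hom.Flat ∧ FibGeomReg f x := by
  haveI := lfp_of_lft f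
  haveI := LocallyOfFiniteType.isLocallyNoetherian f
  let R := Y.presheaf.stalk (f.base x)
  let A := X.presheaf.stalk x
  letI : Algebra R A := (f.stalkMap x).hom.toAlgebra
  haveI : IsLocalHom (algebraMap R A) := inferInstanceAs (IsLocalHom (f.stalkMap x).hom)
  haveI : Algebra.EssFiniteType R A := LocallyOfFiniteType.stalkMap f x
  rw [FlatPtDesc.exists_smooth_nhd_iff, Scheme.Hom.mem_smoothLocus]
  show Algebra.FormallySmooth R A ↔ _
  have h2038 := Groth.Agent.S2038.result (A := R) (B := A)
  rw [geometricallyRegular_fiber_iff] at h2038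
  constructor
  · intro h
    refine (h2038.2 ?_)
    intro E _ _ J hJ ψ _
    exact ⟨_, Algebra.FormallySmooth.comp_lift J ⟨2, hJ⟩ ψ⟩
  · intro h
    exact LiftCrit.formallySmooth_of_adic (h2038.1 h)

/-- Smoothness gives universal openness. -/
theorem isUnivOpenAt_of_smooth (U : X.Opens) [Smooth (U.ι ≫ f)] {x : X} (hx : x ∈ U) : EGA43.IsUnivOpenAt f x := by
  intro Y' g x' hx'
  let j := (pullback.fst f g ⁻¹ᵁ U).ι
  haveI : UniversallyOpen (U.ι ≫ f) := inferInstance
  have sq : IsPullback (pullback.fst f g ∣_ U) (j ≫ pullback.snd f g) (U.ι ≫ f) g :=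
    IsPullback.paste_vert (isPullback_morphismRestrict (pullback.fst f g) U) (IsPullback.of_hasPullback f g)
  haveI : UniversallyOpen (j ≫ pullback.snd f g) := MorphismProperty.of_isPullback (P := @UniversallyOpen) sq inferInstance
  have hopen : IsOpenMap (j ≫ pullback.snd f g) := (j ≫ pullback.snd f g).isOpenMap
  intro V hV
  have hxU : x' ∈ pullback.fst f g ⁻¹ᵁ U := show (pullback.fst f g).base x' ∈ U from hx' ▸ hx
  have h1 := hopen.image_mem_nhds (x := ⟨x', hxU⟩) (j.continuous.continuousAt.preimage_mem_nhds hV)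
  refine Filter.mem_of_superset h1 ?_
  rintro _ ⟨w, hw, rfl⟩
  exact ⟨j w, hw, rfl⟩

theorem isGeomReducedAt_of_mem_smoothLocus {k : Type u} [Field k] {F : Scheme.{u}} (φ : F ⟶ Spec (CommRingCat.of k))
    [LocallyOfFinitePresentation φ] (w : F) (hsm : w ∈ φ.smoothLocus) : FBase.IsGeomReducedAt φ w := by
  intro K _ _ x' hx'
  haveI : LocallyOfFinitePresentation (pullback.snd φ (Spec.map (CommRingCat.ofHom (algebraMap k K)))) :=
    MorphismProperty.pullback_snd _ _ inferInstance
  have hx'' : x' ∈ (pullback.snd φ (Spec.map (CommRingCat.ofHom (algebraMap k K)))).smoothLocus := by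
    refine Groth.Agent.MorLib.SmoothLoc.preimage_le φ _ _ _ (IsPullback.of_hasPullback _ _) ?_
    show (FBase.bcπ φ K).base x' ∈ φ.smoothLocus
    rw [hx']
    exact hsm
  haveI : IsRegularLocalRing ((FBase.bc φ K).presheaf.stalk x') :=
    SmoothReg.isRegularLocalRing_stalk_of_mem_smoothLocus _ hx''
  haveI := RegLoc6.isDomain_of_isRegularLocalRing ((FBase.bc φ K).presheaf.stalk x')
  infer_instance


omit [IsLocallyNoetherian Y] [LocallyOfFiniteType f] in
/-- Geometric regularity passes to a fibre. -/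
theorem fibGeomReg_of_fibre {X' T : Scheme.{u}} {i : X' ⟶ X} {p : X' ⟶ T} {τ : T ⟶ Y} (w : X') (x : X)
    (hx : i w = x) (comm : i ≫ f = p ≫ τ) (hi : Function.Surjective (i.stalkMap w).hom)
    (hτ : Function.Surjective (τ.stalkMap (p w)).hom)
    (hker : RingHom.ker (i.stalkMap w).hom = (maximalIdeal (Y.presheaf.stalk (f (i w)))).map (f.stalkMap (i w)).hom)
    (hT : maximalIdeal (T.presheaf.stalk (p w)) = ⊥) (h : FibGeomReg f x) : FibGeomReg p w := by
  subst hx
  let R := Y.presheaf.stalk (f (i w))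
  let A := X.presheaf.stalk (i w)
  have hpt : τ (p w) = f (i w) := by
    rw [← Scheme.Hom.comp_apply, ← Scheme.Hom.comp_apply, comm]
  let ρ : R ⟶ T.presheaf.stalk (p w) :=
    Y.presheaf.stalkSpecializes (specializes_of_eq hpt) ≫ τ.stalkMap (p w)
  haveI : IsIso (Y.presheaf.stalkSpecializes (specializes_of_eq hpt)) :=
    inferInstanceAs (IsIso (Y.presheaf.stalkCongr (.of_eq hpt.symm)).hom)
  have hρs : Function.Surjective ρ.hom :=
    hτ.comp (asIso (Y.presheaf.stalkSpecializes (specializes_of_eq hpt))).commRingCatIsoToRingEquiv.surjective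
  haveI : IsLocalHom ρ.hom := by
    show IsLocalHom (((τ.stalkMap (p w)).hom).comp (Y.presheaf.stalkSpecializes (specializes_of_eq hpt)).hom)
    haveI : IsLocalHom (Y.presheaf.stalkSpecializes (specializes_of_eq hpt)).hom :=
      inferInstanceAs (IsLocalHom (asIso (Y.presheaf.stalkSpecializes (specializes_of_eq hpt))).hom.hom)
    infer_instance
  have hcomm : ∀ r : R, (i.stalkMap w).hom ((f.stalkMap (i w)).hom r) = (p.stalkMap w).hom (ρ.hom r) := by
    intro r
    have e := Scheme.Hom.stalkMap_congr_hom (i ≫ f) (p ≫ τ) comm w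
    rw [Scheme.Hom.stalkMap_comp, Scheme.Hom.stalkMap_comp] at e
    exact congrArg (fun φ : R ⟶ X'.presheaf.stalk w => φ.hom r) e
  letI : Algebra (ResidueField R) (A ⧸ (maximalIdeal R).map (f.stalkMap (i w)).hom) :=
    (Ideal.quotientMap ((maximalIdeal R).map (f.stalkMap (i w)).hom) (f.stalkMap (i w)).hom Ideal.le_comap_map).toAlgebra
  letI : Algebra (ResidueField (T.presheaf.stalk (p w)))
      (X'.presheaf.stalk w ⧸ (maximalIdeal (T.presheaf.stalk (p w))).map (p.stalkMap w).hom) :=
    (Ideal.quotientMap ((maximalIdeal (T.presheaf.stalk (p w))).map (p.stalkMap w).hom) (p.stalkMap w).hom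
      Ideal.le_comap_map).toAlgebra
  let e₀ : ResidueField R ≃+* ResidueField (T.presheaf.stalk (p w)) :=
    RingEquiv.ofBijective (ResidueField.map ρ.hom) ⟨RingHom.injective _, fun z => by
      obtain ⟨z, rfl⟩ := IsLocalRing.residue_surjective z
      obtain ⟨r, rfl⟩ := hρs z
      exact ⟨residue R r, rfl⟩⟩
  let e₁ : (A ⧸ (maximalIdeal R).map (f.stalkMap (i w)).hom) ≃+*
      (X'.presheaf.stalk w ⧸ (maximalIdeal (T.presheaf.stalk (p w))).map (p.stalkMap w).hom) :=
    ((Ideal.quotEquivOfEq hker.symm).trans (RingHom.quotientKerEquivOfSurjective hi)).trans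
      ((RingEquiv.quotientBot _).symm.trans (Ideal.quotEquivOfEq (by rw [hT, Ideal.map_bot])))
  refine geometricallyRegular_transfer e₀ e₁ (fun c => ?_) h
  obtain ⟨r, rfl⟩ := IsLocalRing.residue_surjective c
  show e₁ (Ideal.Quotient.mk _ ((f.stalkMap (i w)).hom r)) = Ideal.Quotient.mk _ ((p.stalkMap w).hom (ρ.hom r))
  rw [← hcomm]
  rfl

theorem isGeomReducedAt_fiber {x : X} (h : FibGeomReg f x) :
    FBase.IsGeomReducedAt (f.fiberToSpecResidueField (f.base x)) (f.asFiber x) := by
  haveI := lfp_of_lft f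
  haveI : LocallyOfFinitePresentation (f.fiberToSpecResidueField (f.base x)) :=
    MorphismProperty.pullback_snd _ _ inferInstance
  let φ := f.fiberToSpecResidueField (f.base x)
  haveI : IsLocallyNoetherian (Spec (Y.residueField (f.base x))) := inferInstance
  haveI : IsDomain (Y.residueField (f.base x)) := inferInstance
  have hfield : IsField ((Spec (Y.residueField (f.base x))).presheaf.stalk (φ (f.asFiber x))) :=
    isField_stalk_of_field (K := Y.residueField (f.base x)) _
  have hflat : (φ.stalkMap (f.asFiber x)).hom.Flat := by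
    letI := hfield.toField
    letI := (φ.stalkMap (f.asFiber x)).hom.toAlgebra
    exact Module.Flat.of_free (R := (Spec (Y.residueField (f.base x))).presheaf.stalk (φ (f.asFiber x)))
  have hreg : FibGeomReg φ (f.asFiber x) :=
    fibGeomReg_of_fibre f (i := f.fiberι (f.base x)) (τ := Y.fromSpecResidueField (f.base x)) (f.asFiber x) x
      (f.fiberι_asFiber x) pullback.condition ((f.fiberι (f.base x)).stalkMap_surjective _)
      ((Y.fromSpecResidueField (f.base x)).stalkMap_surjective _)
      (FlatDvr.ker_stalkMap_fiberι f (f.asFiber x)) (IsLocalRing.isField_iff_maximalIdeal_eq.1 hfield) h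
  exact isGeomReducedAt_of_mem_smoothLocus (k := Y.residueField (f.base x)) _ _
    ((FlatPtDesc.exists_smooth_nhd_iff φ (f.asFiber x)).1 ((smooth_nhd_iff φ (f.asFiber x)).2 ⟨hflat, hreg⟩))

/-- Flatness from universal openness and geometric regularity of the fibre. -/
theorem flat_of_open (x : X)
    (hopen : ∀ z : ↥(f.fiber (f.base x)), f.asFiber x ∈ closure {z} →
      (∀ z' : ↥(f.fiber (f.base x)), z ∈ closure {z'} → z' = z) →
      EGA43.IsUnivOpenAt f ((f.fiberι (f.base x)).base z))
    (hreg : FibGeomReg f x) (hred : _root_.IsReduced (Y.presheaf.stalk (f.base x))) : (f.stalkMap x).hom.Flat :=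
  FlatDvrVC5.flat_stalkMap_of_univOpen f x hopen (isGeomReducedAt_fiber f hreg) hred

end Groth.Agent.SmoothCrit29
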